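import Groth.Agent.Fano.K774.ChartA

/-!
# The comb chart: points of the chart are curves on the threefold; irreducibility (job 446, S16526)
-/

set_option autoImplicit false

universe u

namespace K774.Chart

open LefPen Groth.Agent.Lefpen.H703.ZOpen Module K714.Irr K714.Frames K470.Cur K656.Trilin K714.Surf K105.CurBd
open K714.TypeConst

variable {k : Type u} [Field k]
variable {T : (Fin 5 → k) →ₗ[k] (Fin 5 → k) →ₗ[k] (Fin 5 → k) →ₗ[k] k}

variable (T) in
/-- the polynomial `T (a, a, a)` in `s` -/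
noncomputable def cubeP {e : ℕ} (a : A k e) : Polynomial k :=
  ∑ i : Fin (e + 1), ∑ j : Fin (e + 1), ∑ l : Fin (e + 1),
    Polynomial.C (T (a i) (a j) (a l)) * Polynomial.X ^ ((i : ℕ) + (j : ℕ) + (l : ℕ))

theorem eval_cubeP {e : ℕ} (a : A k e) (s : k) : (cubeP T a).eval s = T (ev a s) (ev a s) (ev a s) := by
  have h1 : T (ev a s) (ev a s) (ev a s) = ∑ i : Fin (e + 1), ∑ j : Fin (e + 1), ∑ l : Fin (e + 1),
      s ^ (l : ℕ) * (s ^ (j : ℕ) * (s ^ (i : ℕ) * T (a i) (a j) (a l))) := by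
    have h2 : ∀ u v w : Fin (e + 1) → (Fin 5 → k), T (∑ i : Fin (e + 1), s ^ (i : ℕ) • u i)
        (∑ i : Fin (e + 1), s ^ (i : ℕ) • v i) (∑ i : Fin (e + 1), s ^ (i : ℕ) • w i) = ∑ i : Fin (e + 1), ∑ j : Fin (e + 1), ∑ l : Fin (e + 1),
      s ^ (l : ℕ) * (s ^ (j : ℕ) * (s ^ (i : ℕ) * T (u i) (v j) (w l))) := by
      intro u v w
      rw [map_sum T, LinearMap.sum_apply, LinearMap.sum_apply]
      refine Finset.sum_congr rfl fun i _ => ?_
      rw [map_sum (T (s ^ (i : ℕ) • u i)), LinearMap.sum_apply]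
      refine Finset.sum_congr rfl fun j _ => ?_
      rw [map_sum (T (s ^ (i : ℕ) • u i) (s ^ (j : ℕ) • v j))]
      refine Finset.sum_congr rfl fun l _ => ?_
      simp only [map_smul, LinearMap.smul_apply, smul_eq_mul]
    exact h2 a a a
  rw [h1, cubeP]
  simp only [Polynomial.eval_finsetSum, Polynomial.eval_mul, Polynomial.eval_C, Polynomial.eval_pow,
    Polynomial.eval_X]
  refine Finset.sum_congr rfl fun i _ => Finset.sum_congr rfl fun j _ => Finset.sum_congr rfl fun l _ => ?_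
  ring

theorem natDegree_cubeP {e : ℕ} (a : A k e) : (cubeP T a).natDegree ≤ 3 * e := by
  refine Polynomial.natDegree_sum_le_of_forall_le _ _ fun i _ => Polynomial.natDegree_sum_le_of_forall_le _ _
    fun j _ => Polynomial.natDegree_sum_le_of_forall_le _ _ fun l _ => ?_
  refine (Polynomial.natDegree_C_mul_X_pow_le _ _).trans ?_
  have := i.2; have := j.2; have := l.2
  omega

theorem coeff_cubeP {e : ℕ} (a : A k e) :
    (cubeP T a).coeff (3 * e) = T (a (Fin.last e)) (a (Fin.last e)) (a (Fin.last e)) := by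
  rw [cubeP]
  simp only [Polynomial.finsetSum_coeff, Polynomial.coeff_C_mul, Polynomial.coeff_X_pow]
  have hlt : ∀ i : Fin (e + 1), i ≠ Fin.last e → (i : ℕ) < e := fun i hi =>
    lt_of_le_of_ne (Nat.le_of_lt_succ i.2) fun h => hi (Fin.ext (by rw [h, Fin.val_last]))
  have hle : ∀ i : Fin (e + 1), (i : ℕ) ≤ e := fun i => Nat.le_of_lt_succ i.2
  rw [Finset.sum_eq_single (Fin.last e), Finset.sum_eq_single (Fin.last e), Finset.sum_eq_single (Fin.last e)]
  · rw [if_pos (by simp only [Fin.val_last]; ring), mul_one]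
  · intro l _ hl
    have := hlt l hl
    rw [if_neg (by simp only [Fin.val_last]; omega), mul_zero]
  · intro h; exact absurd (Finset.mem_univ _) h
  · intro j _ hj
    have := hlt j hj
    refine Finset.sum_eq_zero fun l _ => ?_
    have := hle l
    rw [if_neg (by simp only [Fin.val_last]; omega), mul_zero]
  · intro h; exact absurd (Finset.mem_univ _) h
  · intro i _ hi
    have := hlt i hi
    refine Finset.sum_eq_zero fun j _ => Finset.sum_eq_zero fun l _ => ?_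
    have := hle l
    have := hle j
    rw [if_neg (by omega), mul_zero]
  · intro h; exact absurd (Finset.mem_univ _) h

theorem dvd_of_taylor [Infinite k] (F P : Polynomial k) (t : k)
    (h : ∀ s : k, F.eval (t + s) = s ^ 3 * P.eval s) : (Polynomial.X - Polynomial.C t) ^ 3 ∣ F := by
  refine ⟨P.comp (Polynomial.X - Polynomial.C t), ?_⟩
  apply Polynomial.funext
  intro s
  have h1 := h (s - t)
  rw [add_sub_cancel] at h1
  rw [h1]
  simp

/-- points of the chart are curves on the threefold -/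
theorem mem_Z_of_chart [Infinite k] [CharZero k] (hT : IsSym3 T) {e : ℕ} {y : Y k e} (hy : y ∈ Chart T e)
    (hinj : Function.Injective y.2.1) : y.1 ∈ Z T e := by
  obtain ⟨hlast, hy⟩ := hy
  have hdvd : ∀ i : Fin e, (Polynomial.X - Polynomial.C (y.2.1 i)) ^ 3 ∣ cubeP T y.1 := by
    intro i
    obtain ⟨P, hP⟩ := taylor_two hT y.1 (y.2.1 i)
    refine dvd_of_taylor _ P _ fun s => ?_
    rw [eval_cubeP, hP]
    obtain ⟨h0, h1, h2, h3⟩ := hy i
    rw [hd_zero_eq, h0]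
    simp only [map_smul, LinearMap.smul_apply, smul_eq_mul]
    rw [h1, h2]
    have h4 : 3 * (y.2.2.1 i * (y.2.2.1 i * T (y.2.2.2 i) (y.2.2.2 i) (hd y.1 2 (y.2.1 i)))) +
        3 * (y.2.2.1 i * T (y.2.2.2 i) (hd y.1 1 (y.2.1 i)) (hd y.1 1 (y.2.1 i))) =
        3 * y.2.2.1 i * (y.2.2.1 i * T (y.2.2.2 i) (y.2.2.2 i) (hd y.1 2 (y.2.1 i)) +
          T (y.2.2.2 i) (hd y.1 1 (y.2.1 i)) (hd y.1 1 (y.2.1 i))) := by ring
    rw [h4, h3]
    ring
  have hcop : ∀ i ∈ (Finset.univ : Finset (Fin e)), ∀ j ∈ (Finset.univ : Finset (Fin e)), i ≠ j →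
      IsCoprime ((Polynomial.X - Polynomial.C (y.2.1 i)) ^ 3) ((Polynomial.X - Polynomial.C (y.2.1 j)) ^ 3) :=
    fun i _ j _ hij => (Polynomial.isCoprime_X_sub_C_of_isUnit_sub
      (sub_ne_zero.2 fun h => hij (hinj h)).isUnit).pow
  have hprod : (∏ i : Fin e, (Polynomial.X - Polynomial.C (y.2.1 i)) ^ 3) ∣ cubeP T y.1 :=
    Finset.prod_dvd_of_coprime (fun i hi j hj hij => hcop i hi j hj hij) fun i _ => hdvd i
  have hmonic : (∏ i : Fin e, (Polynomial.X - Polynomial.C (y.2.1 i)) ^ 3).Monic :=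
    Polynomial.monic_prod_of_monic _ _ fun i _ => (Polynomial.monic_X_sub_C _).pow 3
  have hdeg : (∏ i : Fin e, (Polynomial.X - Polynomial.C (y.2.1 i)) ^ 3).natDegree = 3 * e := by
    rw [Polynomial.natDegree_prod_of_monic _ _ fun i _ => (Polynomial.monic_X_sub_C _).pow 3]
    simp [mul_comm]
  have hF : cubeP T y.1 = 0 := by
    by_contra hne
    have h1 := Polynomial.natDegree_le_of_dvd hprod hne
    rw [hdeg] at h1
    have h2 : (cubeP T y.1).natDegree = 3 * e := le_antisymm (natDegree_cubeP _) h1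
    apply hne
    rw [← Polynomial.leadingCoeff_eq_zero, Polynomial.leadingCoeff, h2, coeff_cubeP, hlast]
  intro s
  rw [← eval_cubeP, hF, Polynomial.eval_zero]

/-- images under maps with denominators -/
theorem irr_rat {V W : Type u} [AddCommGroup V] [Module k V] [AddCommGroup W] [Module k W] {B : Set V}
    (hB : Irr k B) {δ : V → k} (hδ : IsPolyFun k δ) {Q P : V → W} (hQ : IsPolyMap k Q) (hP : IsPolyMap k P)
    (h0 : ∀ b ∈ B, δ b ≠ 0) : Irr k ((fun b => Q b + (δ b)⁻¹ • P b) '' B) := by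
  obtain ⟨b0, hb0⟩ := hB.1
  refine ⟨⟨_, b0, hb0, rfl⟩, ?_⟩
  rintro O O' hO hO' ⟨_, ⟨b, hb, rfl⟩, hbO⟩ ⟨_, ⟨c, hc, rfl⟩, hcO⟩
  obtain ⟨x, hx, ⟨hx0, hx1⟩, -, hx2⟩ := hB.2 _ _ (isZOpen_rat hO hδ hQ hP) (isZOpen_rat hO' hδ hQ hP)
    ⟨b, hb, h0 b hb, hbO⟩ ⟨c, hc, h0 c hc, hcO⟩
  exact ⟨_, ⟨x, hx, rfl⟩, hx1, hx2⟩

theorem pf_t {e : ℕ} (i : Fin e) : IsPolyFun k (fun q : A k e × (Fin e → k) × (Fin e → k) => q.2.1 i) := by
  have h : IsPolyMap k (fun q : A k e × (Fin e → k) × (Fin e → k) => q.2.1) := pm_comp isPolyMap_fst isPolyMap_snd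
  exact h (LinearMap.proj i)

theorem pf_α {e : ℕ} (i : Fin e) : IsPolyFun k (fun q : A k e × (Fin e → k) × (Fin e → k) => q.2.2 i) := by
  have h : IsPolyMap k (fun q : A k e × (Fin e → k) × (Fin e → k) => q.2.2) := pm_comp isPolyMap_snd isPolyMap_snd
  exact h (LinearMap.proj i)

theorem irr_ov [Infinite k] {e : ℕ} {W : Set (A k e)} (hW : Irr k W) : Irr k (Ov W) := by
  classical
  let B0 : Set (A k e × (Fin e → k) × (Fin e → k)) := {q | q.1 ∈ W ∧ q.2 ∈ Set.univ}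
  have hB0 : Irr k B0 := hW.prod irr_univ
  let O : Set (A k e × (Fin e → k) × (Fin e → k)) := {q | Function.Injective q.2.1 ∧ ∀ i, q.2.2 i ≠ 0}
  have hO : IsZOpen k O := by
    have h1 : IsZOpen k (⋂ i : Fin e × Fin e, {q : A k e × (Fin e → k) × (Fin e → k) |
        i.1 ≠ i.2 → q.2.1 i.1 - q.2.1 i.2 ≠ 0}) := by
      refine isZOpen_iInter fun i => ?_
      by_cases hi : i.1 = i.2
      · have : {q : A k e × (Fin e → k) × (Fin e → k) | i.1 ≠ i.2 → q.2.1 i.1 - q.2.1 i.2 ≠ 0} = Set.univ := by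
          ext q; simp [hi]
        rw [this]
        exact isZOpen_univ
      · have : {q : A k e × (Fin e → k) × (Fin e → k) | i.1 ≠ i.2 → q.2.1 i.1 - q.2.1 i.2 ≠ 0} =
            {q : A k e × (Fin e → k) × (Fin e → k) | q.2.1 i.1 - q.2.1 i.2 ≠ 0} := by
          ext q; simp [hi]
        rw [this]
        exact isZOpen_basic (pf_sub (pf_t _) (pf_t _))
    have h2 : IsZOpen k (⋂ i : Fin e, {q : A k e × (Fin e → k) × (Fin e → k) | q.2.2 i ≠ 0}) :=
      isZOpen_iInter fun i => isZOpen_basic (pf_α i)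
    refine (isZOpen_congr fun q => ?_).1 (zo_inter h1 h2)
    simp only [Set.mem_inter_iff, Set.mem_iInter, Set.mem_ofPred_eq, O, sub_ne_zero]
    constructor
    · rintro ⟨h, h'⟩
      exact ⟨fun i j hij => by_contra fun hne => h (i, j) hne hij, h'⟩
    · rintro ⟨h, h'⟩
      exact ⟨fun i hne heq => hne (h heq), h'⟩
  have hne : (B0 ∩ O).Nonempty := by
    obtain ⟨a, ha⟩ := hW.1
    refine ⟨(a, (fun i => (Infinite.natEmbedding k) i), fun _ => 1), ⟨ha, trivial⟩, fun i j hij => ?_, fun _ => one_ne_zero⟩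
    exact Fin.ext ((Infinite.natEmbedding k).injective hij)
  have hB : Irr k (B0 ∩ O) := hB0.inter_open hO hne
  let δ : A k e × (Fin e → k) × (Fin e → k) → k := fun q => ∏ i, q.2.2 i
  have hδ : IsPolyFun k δ := pf_prod _ fun i _ => pf_α i
  let Q : A k e × (Fin e → k) × (Fin e → k) → Y k e := fun q => (q.1, q.2.1, q.2.2, 0)
  let P : A k e × (Fin e → k) × (Fin e → k) → Y k e := fun q =>
    (0, 0, 0, fun i => (∏ j ∈ Finset.univ.erase i, q.2.2 j) • ev q.1 (q.2.1 i))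
  have hQ : IsPolyMap k Q := pm_prodMk isPolyMap_fst (pm_prodMk (pm_comp isPolyMap_fst isPolyMap_snd)
    (pm_prodMk (pm_comp isPolyMap_snd isPolyMap_snd) (isPolyMap_const _)))
  have hP : IsPolyMap k P := pm_prodMk (isPolyMap_const _) (pm_prodMk (isPolyMap_const _)
    (pm_prodMk (isPolyMap_const _) (pm_pi' fun i => pm_smul (pf_prod _ fun j _ => pf_α j)
      (pm_ev isPolyMap_fst (pf_t i)))))
  have key : (fun b => Q b + (δ b)⁻¹ • P b) '' (B0 ∩ O) = Ov W := by
    have hp : ∀ (q : A k e × (Fin e → k) × (Fin e → k)) (hq : ∀ i, q.2.2 i ≠ 0) (i : Fin e),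
        (δ q)⁻¹ • (∏ j ∈ Finset.univ.erase i, q.2.2 j) • ev q.1 (q.2.1 i) = (q.2.2 i)⁻¹ • ev q.1 (q.2.1 i) := by
      intro q hq i
      rw [smul_smul]
      congr 1
      have h1 : δ q = q.2.2 i * ∏ j ∈ Finset.univ.erase i, q.2.2 j :=
        (Finset.mul_prod_erase _ _ (Finset.mem_univ i)).symm
      have h2 : (∏ j ∈ Finset.univ.erase i, q.2.2 j) ≠ 0 := Finset.prod_ne_zero_iff.2 fun j _ => hq j
      rw [h1, mul_inv, mul_assoc, inv_mul_cancel₀ h2, mul_one]
    ext y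
    constructor
    · rintro ⟨q, ⟨⟨hq1, -⟩, hq2, hq3⟩, rfl⟩
      simp only [Q, P, Prod.smul_mk, Prod.mk_add_mk, smul_zero, add_zero, zero_add]
      refine ⟨hq1, hq2, fun i => ⟨hq3 i, ?_⟩⟩
      simp only [Pi.smul_apply]
      rw [hp q hq3 i, smul_smul, mul_inv_cancel₀ (hq3 i), one_smul]
    · rintro ⟨h1, h2, h3⟩
      refine ⟨(y.1, y.2.1, y.2.2.1), ⟨⟨h1, trivial⟩, h2, fun i => (h3 i).1⟩, ?_⟩
      simp only [Q, P, Prod.smul_mk, Prod.mk_add_mk, smul_zero, add_zero, zero_add]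
      refine Prod.ext rfl (Prod.ext rfl (Prod.ext rfl (funext fun i => ?_)))
      simp only [Pi.smul_apply]
      rw [hp (y.1, y.2.1, y.2.2.1) (fun i => (h3 i).1) i]
      simp only
      rw [(h3 i).2, smul_smul, inv_mul_cancel₀ (h3 i).1, one_smul]
  rw [← key]
  exact irr_rat hB hδ hQ hP fun q hq => Finset.prod_ne_zero_iff.2 fun i _ => hq.2.2 i

end K774.Chart
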