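import Groth.Agent.Fano.K105.CurBd
import Groth.Agent.Fano.K925.Comb

/-!
# The comb chart: equations and Taylor expansions (job 446, S16526)
-/

set_option autoImplicit false

universe u

namespace K774.Chart

open LefPen Groth.Agent.Lefpen.H703.ZOpen Module K714.Irr K714.Frames K470.Cur K656.Trilin K714.Surf K105.CurBd
open K714.TypeConst

variable {k : Type u} [Field k]
variable {T : (Fin 5 → k) →ₗ[k] (Fin 5 → k) →ₗ[k] (Fin 5 → k) →ₗ[k] k}

theorem isZOpen_compl_Z (e : ℕ) : IsZOpen k (Z T e)ᶜ := by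
  have h := isZOpen_compl_zeros (k := k) (V := A k e) (f := fun (s : k) (a : A k e) =>
    T (ev a s) (ev a s) (ev a s)) (fun s => by
      have h1 : IsPolyMap k (fun a : A k e => ev a s) := pm_ev isPolyMap_id (isPolyFun_const s)
      exact pf_tri T h1 h1 h1)
  refine (isZOpen_congr fun a => ?_).1 h
  simp only [Z, Set.mem_compl_iff, Set.mem_ofPred_eq, not_forall, ne_eq]

theorem isZOpen_compl_chart (e : ℕ) : IsZOpen k (Chart T e)ᶜ := by
  have h := isZOpen_compl_zeros (k := k) (V := Y k e) (f := K925.Comb.eqn T e) (K925.Comb.pf_eqn e)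
  refine (isZOpen_congr fun a => ?_).1 h
  rw [Set.mem_compl_iff, K925.Comb.mem_chart_iff, Set.mem_ofPred_eq, not_forall]

/-- Taylor expansion -/
theorem ev_add {e : ℕ} (a : A k e) (s h : k) : ev a (s + h) = ∑ j : Fin (e + 1), h ^ (j : ℕ) • hd a j s :=
  K105.CurBd.ev_add a s h

theorem ev_prodCurve {e : ℕ} (x : Fin 5 → k) (t : Fin e → k) (s : k) :
    ev (prodCurve x t) s = (∏ j, (s - t j)) • x := by
  have h1 : ev (prodCurve x t) s = (Lagrange.nodal Finset.univ t).eval s • x := by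
    rw [K925.Comb.eval_eq (K925.Comb.natDegree_nodal t).le, Finset.sum_smul]
    refine Finset.sum_congr rfl fun j _ => ?_
    rw [K925.Comb.prodCurve_apply, smul_smul]
  rw [h1, Lagrange.eval_nodal]

theorem comp_translate [IsAlgClosed k] {e : ℕ} {W : Set (A k e)} (hW : IsComp k (Z T e) W) (c : k) {a : A k e}
    (ha : a ∈ W) : (fun i => hd a i c : A k e) ∈ W := K105.CurBd.comp_translate hW c ha

theorem comp_scale [IsAlgClosed k] {e : ℕ} {W : Set (A k e)} (hW : IsComp k (Z T e) W) (c r : k) {a : A k e}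
    (ha : a ∈ W) : (fun i => (c * r ^ (i : ℕ)) • a i : A k e) ∈ W := by
  obtain ⟨h1, h2, h3⟩ := hW
  let Φ : (k × k) × A k e → A k e := fun q i => (q.1.1 * q.1.2 ^ (i : ℕ)) • q.2 i
  have hc : IsPolyFun k (fun q : (k × k) × A k e => q.1.1) :=
    isPolyMap_iff_isPolyFun.1 (pm_comp isPolyMap_fst isPolyMap_fst)
  have hr : IsPolyFun k (fun q : (k × k) × A k e => q.1.2) :=
    isPolyMap_iff_isPolyFun.1 (pm_comp isPolyMap_snd isPolyMap_fst)
  have hΦ : IsPolyMap k Φ := pm_pi' fun i =>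
    pm_smul (pf_mul hc (pf_pow hr _)) (pm_comp (pm_proj i) isPolyMap_snd)
  have hirr : Irr k (Φ '' (Set.univ ×ˢ W)) := (Irr.prod (irr_univ (k := k) (V := k × k)) h2).image hΦ
  have hsub : W ⊆ Φ '' (Set.univ ×ˢ W) := by
    intro b hb
    refine ⟨((1, 1), b), ⟨trivial, hb⟩, ?_⟩
    funext i
    simp [Φ]
  have hZ : Φ '' (Set.univ ×ˢ W) ⊆ Z T e := by
    rintro _ ⟨⟨⟨d, r'⟩, b⟩, ⟨-, hb⟩, rfl⟩ s
    have h4 : ev (Φ ((d, r'), b)) s = d • ev b (r' * s) := by
      simp only [ev, Φ, Finset.smul_sum, smul_smul]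
      refine Finset.sum_congr rfl fun i _ => ?_
      congr 1
      ring
    have h5 := h1 hb (r' * s)
    rw [h4]
    simp only [map_smul, LinearMap.smul_apply]
    rw [h5]
    simp
  rw [← h3 _ hZ hirr hsub]
  exact ⟨((c, r), a), ⟨trivial, ha⟩, rfl⟩

/-! ### Taylor expansion of the equation -/

theorem hd_zero_eq {e : ℕ} (a : A k e) (s : k) : hd a 0 s = ev a s := by
  simp [hd, ev]

theorem hd_of_lt {e : ℕ} (a : A k e) {j : ℕ} (hj : e < j) (s : k) : hd a j s = 0 := by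
  simp only [hd]
  refine Finset.sum_eq_zero fun i _ => ?_
  rw [Nat.choose_eq_zero_of_lt (by omega)]
  simp

theorem ev_add_range {e : ℕ} (a : A k e) (s h : k) (N : ℕ) (hN : e + 1 ≤ N) :
    ev a (s + h) = ∑ j ∈ Finset.range N, h ^ j • hd a j s := by
  rw [ev_add, Fin.sum_univ_eq_sum_range (fun j => h ^ j • hd a j s) (e + 1)]
  refine Finset.sum_subset (fun m hm => ?_) fun m _ hm => ?_
  · rw [Finset.mem_range] at hm ⊢; omega
  · rw [Finset.mem_range] at hm
    rw [hd_of_lt a (by omega), smul_zero]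

/-- second order expansion with polynomial remainder -/
theorem ev_add_two {e : ℕ} (a : A k e) (s : k) : ∃ R : k → (Fin 5 → k), IsPolyMap k R ∧
    ∀ h, ev a (s + h) = hd a 0 s + h • hd a 1 s + h ^ 2 • hd a 2 s + h ^ 3 • R h := by
  refine ⟨fun h => ∑ j ∈ Finset.range (e + 1), h ^ j • hd a (j + 3) s, ?_, fun h => ?_⟩
  · intro l
    simp only [map_sum, map_smul, smul_eq_mul]
    exact pf_sum _ fun i _ => pf_mul (pf_pow (isPolyMap_iff_isPolyFun.1 isPolyMap_id) _) (isPolyFun_const _)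
  · rw [ev_add_range a s h (e + 1 + 3) (by omega), Finset.sum_range_succ', Finset.sum_range_succ',
      Finset.sum_range_succ', Finset.smul_sum]
    simp only [zero_add, pow_zero, one_smul, pow_one, smul_smul, ← pow_add]
    have h1 : ∀ j : ℕ, h ^ (j + 1 + 1 + 1) • hd a (j + 1 + 1 + 1) s = h ^ (3 + j) • hd a (j + 3) s := by
      intro j
      rw [show j + 1 + 1 + 1 = j + 3 by ring, add_comm 3 j]
    simp only [h1]
    norm_num
    abel

theorem exists_poly [Infinite k] {f : k → k} (hf : IsPolyFun k f) : ∃ P : Polynomial k, ∀ t, P.eval t = f t := by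
  obtain ⟨P, hP⟩ := pf_line hf 0 1
  exact ⟨P, fun t => by rw [hP]; simp⟩

/-- second order expansion of the equation -/
theorem taylor_two [Infinite k] (hT : IsSym3 T) {e : ℕ} (a : A k e) (s : k) : ∃ P : Polynomial k, ∀ h : k,
    T (ev a (s + h)) (ev a (s + h)) (ev a (s + h)) =
      T (hd a 0 s) (hd a 0 s) (hd a 0 s) + 3 * T (hd a 0 s) (hd a 0 s) (hd a 1 s) * h +
      (3 * T (hd a 0 s) (hd a 0 s) (hd a 2 s) + 3 * T (hd a 0 s) (hd a 1 s) (hd a 1 s)) * h ^ 2 +
        h ^ 3 * P.eval h := by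
  obtain ⟨R, hR, hev⟩ := ev_add_two a s
  have hX : IsPolyFun k (fun h : k => h) := isPolyMap_iff_isPolyFun.1 isPolyMap_id
  have hc : ∀ v : Fin 5 → k, IsPolyMap k (fun _ : k => v) := fun v => isPolyMap_const v
  have hU : IsPolyMap k (fun h : k => hd a 0 s + h • hd a 1 s + h ^ 2 • hd a 2 s) :=
    pm_add (pm_add (hc _) (pm_smul hX (hc _))) (pm_smul (pf_pow hX 2) (hc _))
  obtain ⟨P, hP⟩ := exists_poly (k := k) (f := fun h =>
    (T (hd a 1 s) (hd a 1 s) (hd a 1 s) + 6 * T (hd a 0 s) (hd a 1 s) (hd a 2 s)) +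
    h * (3 * T (hd a 0 s) (hd a 2 s) (hd a 2 s) + 3 * T (hd a 1 s) (hd a 1 s) (hd a 2 s)) +
    h ^ 2 * (3 * T (hd a 1 s) (hd a 2 s) (hd a 2 s)) + h ^ 3 * T (hd a 2 s) (hd a 2 s) (hd a 2 s) +
    3 * T (hd a 0 s + h • hd a 1 s + h ^ 2 • hd a 2 s) (hd a 0 s + h • hd a 1 s + h ^ 2 • hd a 2 s) (R h) +
    3 * h ^ 3 * T (hd a 0 s + h • hd a 1 s + h ^ 2 • hd a 2 s) (R h) (R h) + h ^ 6 * T (R h) (R h) (R h))
    (by
      have t1 := pf_tri T hU hU hR
      have t2 := pf_tri T hU hR hR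
      have t3 := pf_tri T hR hR hR
      exact pf_add (pf_add (pf_add (pf_add (pf_add (pf_add (isPolyFun_const _)
        (pf_mul hX (isPolyFun_const _))) (pf_mul (pf_pow hX 2) (isPolyFun_const _)))
        (pf_mul (pf_pow hX 3) (isPolyFun_const _))) (pf_mul (isPolyFun_const _) t1))
        (pf_mul (pf_mul (isPolyFun_const _) (pf_pow hX 3)) t2)) (pf_mul (pf_pow hX 6) t3))
  refine ⟨P, fun h => ?_⟩
  rw [hP, hev]
  set u0 := hd a 0 s
  set u1 := hd a 1 s
  set u2 := hd a 2 s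
  set r := R h
  rw [hT.cube_add_smul]
  rw [hT.cube_add_smul]
  rw [hT.cube_add_smul u0 u1 h]
  simp only [map_add, map_smul, LinearMap.add_apply, LinearMap.smul_apply, smul_eq_mul]
  rw [hT.s12 u1 u0 u2, hT.s12 u1 u0 r, hT.s12 u2 u0 r, hT.s12 u2 u1 r]
  ring

/-- Two polynomial expansions agree. -/
theorem coeffs_zero [Infinite k] {c0 c1 c2 : k} {P : Polynomial k}
    (h : ∀ t : k, c0 + c1 * t + c2 * t ^ 2 + t ^ 3 * P.eval t = 0) : c0 = 0 ∧ c1 = 0 ∧ c2 = 0 := by
  have h1 : Polynomial.C c0 + Polynomial.C c1 * Polynomial.X + Polynomial.C c2 * Polynomial.X ^ 2 +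
      Polynomial.X ^ 3 * P = 0 := by
    apply Polynomial.funext
    intro t
    simpa using h t
  refine ⟨?_, ?_, ?_⟩
  · simpa [Polynomial.coeff_X_pow_mul'] using congrArg (fun Q => Polynomial.coeff Q 0) h1
  · simpa [Polynomial.coeff_X_pow_mul', Polynomial.coeff_X, Polynomial.coeff_C] using
      congrArg (fun Q => Polynomial.coeff Q 1) h1
  · simpa [Polynomial.coeff_X_pow_mul', Polynomial.coeff_X, Polynomial.coeff_C] using
      congrArg (fun Q => Polynomial.coeff Q 2) h1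

/-- The Taylor coefficients vanish on a curve of the threefold. -/
theorem taylor_of_mem [Infinite k] (hT : IsSym3 T) {e : ℕ} {a : A k e} (ha : a ∈ Z T e) (s : k) :
    T (hd a 0 s) (hd a 0 s) (hd a 0 s) = 0 ∧ 3 * T (hd a 0 s) (hd a 0 s) (hd a 1 s) = 0 ∧
      3 * T (hd a 0 s) (hd a 0 s) (hd a 2 s) + 3 * T (hd a 0 s) (hd a 1 s) (hd a 1 s) = 0 := by
  obtain ⟨P, hP⟩ := taylor_two hT a s
  exact coeffs_zero (P := P) fun t => by rw [← hP]; exact ha _

/-- the value at infinity -/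
theorem last_of_mem [Infinite k] {e : ℕ} {a : A k e} (ha : a ∈ Z T e) :
    T (a (Fin.last e)) (a (Fin.last e)) (a (Fin.last e)) = 0 := by
  let g : k → (Fin 5 → k) := fun u => ∑ i : Fin (e + 1), u ^ (e - (i : ℕ)) • a i
  have hg : IsPolyMap k g := by
    intro l
    simp only [g, map_sum, map_smul, smul_eq_mul]
    exact pf_sum _ fun i _ => pf_mul (pf_pow (isPolyMap_iff_isPolyFun.1 isPolyMap_id) _) (isPolyFun_const _)
  obtain ⟨P, hP⟩ := exists_poly (pf_tri T hg hg hg)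
  have h1 : ∀ u : k, u ≠ 0 → P.eval u = 0 := by
    intro u hu
    rw [hP]
    have h2 : g u = u ^ e • ev a u⁻¹ := by
      simp only [g, ev, Finset.smul_sum, smul_smul]
      refine Finset.sum_congr rfl fun i _ => ?_
      congr 1
      have hi : (i : ℕ) ≤ e := Nat.le_of_lt_succ i.2
      rw [inv_pow, ← div_eq_mul_inv, eq_div_iff (pow_ne_zero _ hu), ← pow_add]
      congr 1
      omega
    rw [h2]
    simp only [map_smul, LinearMap.smul_apply]
    rw [ha u⁻¹]
    simp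
  have h2 : Polynomial.X * P = 0 := by
    apply Polynomial.funext
    intro t
    rw [Polynomial.eval_mul, Polynomial.eval_X, Polynomial.eval_zero]
    by_cases ht : t = 0
    · rw [ht, zero_mul]
    · rw [h1 t ht, mul_zero]
  have h3 : P = 0 := by
    rcases mul_eq_zero.1 h2 with h | h
    · exact absurd h Polynomial.X_ne_zero
    · exact h
  have h4 : g 0 = a (Fin.last e) := by
    simp only [g]
    rw [Finset.sum_eq_single (Fin.last e)]
    · simp
    · intro i _ hi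
      have hi' : (i : ℕ) ≤ e := Nat.le_of_lt_succ i.2
      have : (i : ℕ) ≠ e := fun h => hi (Fin.ext (by rw [h, Fin.val_last]))
      rw [zero_pow (by omega), zero_smul]
    · simp
  have h5 := hP 0
  rw [h4, h3, Polynomial.eval_zero] at h5
  exact h5.symm

/-- curves with all `α_i ≠ 0` give points of the chart -/
theorem ov_subset [Infinite k] [CharZero k] (hT : IsSym3 T) {e : ℕ} {W : Set (A k e)} (hW : W ⊆ Z T e) :
    Ov W ⊆ Chart T e := by
  rintro y ⟨hyW, -, hα⟩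
  refine ⟨last_of_mem (hW hyW), fun i => ⟨(hα i).2, ?_⟩⟩
  obtain ⟨h0, h1⟩ := hα i
  obtain ⟨c0, c1, c2⟩ := taylor_of_mem hT (hW hyW) (y.2.1 i)
  rw [hd_zero_eq, h1] at c0 c1 c2
  simp only [map_smul, LinearMap.smul_apply, smul_eq_mul] at c0 c1 c2
  have h3 : (3 : k) ≠ 0 := by norm_num
  refine ⟨?_, ?_, ?_⟩
  · have := mul_ne_zero h0 (mul_ne_zero h0 h0)
    have h4 : (y.2.2.1 i * (y.2.2.1 i * y.2.2.1 i)) * T (y.2.2.2 i) (y.2.2.2 i) (y.2.2.2 i) = 0 := by
      rw [← c0]; ring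
    exact (mul_eq_zero.1 h4).resolve_left this
  · have := mul_ne_zero h3 (mul_ne_zero h0 h0)
    have h4 : (3 * (y.2.2.1 i * y.2.2.1 i)) * T (y.2.2.2 i) (y.2.2.2 i) (hd y.1 1 (y.2.1 i)) = 0 := by
      rw [← c1]; ring
    exact (mul_eq_zero.1 h4).resolve_left this
  · have := mul_ne_zero h3 h0
    have h4 : (3 * y.2.2.1 i) * (y.2.2.1 i * T (y.2.2.2 i) (y.2.2.2 i) (hd y.1 2 (y.2.1 i)) +
        T (y.2.2.2 i) (hd y.1 1 (y.2.1 i)) (hd y.1 1 (y.2.1 i))) = 0 := by
      rw [← c2]; ring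
    exact (mul_eq_zero.1 h4).resolve_left this

end K774.Chart
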